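import Groth.Agent.H16Derived.ProperSupp.Perfect
import Groth.Agent.H16Derived.Dual.BiDual

/-!
# `Rf_*(E ⊗^L G)` for a perfect `E` and a coherent `G`, flat over the base with proper support
-/

set_option autoImplicit false
set_option linter.style.haveILetI false

universe u

open CategoryTheory CategoryTheory.Limits AlgebraicGeometry MonoidalCategory
open Groth.Agent.H16Derived
open Groth.Agent.H16Derived.KFlat Groth.Agent.H16Derived.KFlat.Stalk
open Groth.Agent.H4DR.TorAmp

attribute [local instance] HasDerivedCategory.standard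

namespace Groth.Agent.H16Derived.ProperSupp

open Groth.Agent.H4DR.KFlatMod (bi)
open Groth.Agent.H16Derived.TorTest (Sx at_congr at_restrict at_comp)

variable {X S : Scheme.{u}}

/-- `P ⊗ G[0]` is `P ⊗ G` termwise. -/
noncomputable def tensorSingleX (P : CochainComplex X.Modules ℤ) (G : X.Modules) :
    ((DCoh.tensorRightMod G).mapHomologicalComplex (ComplexShape.up ℤ)).obj P ≅
      ((DCoh.tensorCx (X := X)).obj P).obj ((CochainComplex.singleFunctor X.Modules 0).obj G) :=
  (NatIso.mapHomologicalComplex (tensorRightModIso G ≪≫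
      (DCoh.tensorBi (X := X)).flip.mapIso (HomologicalComplex.singleObjXSelf (ComplexShape.up ℤ) 0 G).symm)
    (ComplexShape.up ℤ)).app P ≪≫
  KFlat.singleLeftIso (DCoh.tensorBi (X := X)).flip ((CochainComplex.singleFunctor X.Modules 0).obj G) P
    (fun _ hp => HomologicalComplex.isZero_single_obj_X _ _ _ _ hp) ≪≫
  (tensorCxFlipIso _).app P

/-- `- ⊗^L G` through the bifunctor. -/
theorem nonempty_ltensorMod_iso (E : DCoh.D X) (G : X.Modules) [DCoh.HasLTensorMod G] :
    Nonempty ((DCoh.LTensorMod G).obj E ≅ ((Dual.T X).obj E).obj (DCoh.inD X G)) := by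
  obtain ⟨P, -, hP, ⟨eP⟩⟩ := Dual.exists_rep E
  exact ⟨(DCoh.LTensorMod G).mapIso eP.symm ≪≫ ltensorModObjIso G P hP ≪≫
    DerivedCategory.Q.mapIso (tensorSingleX P G) ≪≫ ((Dual.TObjIso P hP).app _).symm ≪≫
    ((Dual.T X).obj _).mapIso ((DerivedCategory.singleFunctorIsoCompQ X.Modules 0).app G).symm ≪≫
    ((Dual.T X).mapIso eP).app _⟩

/-- `E ⊗^L G` has coherent cohomology. -/
theorem isCohD_ltensorMod [IsLocallyNoetherian X] {E : DCoh.D X} (hE : DCoh.IsPerfect E)
    {G : X.Modules} (hG : Coh.IsCoh G) [DCoh.HasLTensorMod G] :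
    DCoh.IsCohD ((DCoh.LTensorMod G).obj E) := by
  obtain ⟨e⟩ := nonempty_ltensorMod_iso E G
  haveI := Dual.isIso_w hE
  have hro := Dual.isPerfect_ro hE
  have hGD : DCoh.IsCohD (DCoh.inD X G) := fun i => by
    rcases eq_or_ne i 0 with rfl | hi
    · exact H10Coh.isCoh_of_iso (hdSingle G 0).symm hG
    · refine Dual.isCoh_isZero ?_
      rcases lt_or_gt_of_ne hi with h | h
      · exact DerivedCategory.isZero_of_isGE _ 0 i h
      · exact DerivedCategory.isZero_of_isLE _ 0 i h
  refine Dual.isCohD_iso ((Dual.θIso hro (DCoh.inD X G)).symm ≪≫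
    ((Dual.T X).obj _).mapIso (asIso (Dual.w E)).symm ≪≫ Dual.σ _ _ ≪≫ e.symm) ?_
  exact Dual.isCohD_R (isPseudoCoherentD_of_isPerfect hro) hGD 0

theorem isZero_stalk_of_notMem {M : X.Modules} {x : X} (h : x ∉ CohB1.support M) :
    IsZero ((DerSch.stalkFunctor X x).obj M) := by
  haveI : Subsingleton ((DerSch.stalkFunctor X x).obj M) := (not_not.1 h : Subsingleton (M.presheaf.stalk x))
  exact ModuleCat.isZero_of_subsingleton _

/-- The stalk of `P ⊗ G` over the base. -/
noncomputable def stalkTensorModIso (f : X ⟶ S) (x : X) (P : CochainComplex X.Modules ℤ) (G : X.Modules) :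
    (DerSch.stalkCxOver f x).obj (((DCoh.tensorRightMod G).mapHomologicalComplex (ComplexShape.up ℤ)).obj P) ≅
      (DTen.resCx (f.stalkMap x).hom).obj ((tens ((DerSch.stalkFunctor X x).obj G)).obj ((Sx x).obj P)) :=
  (DTen.resCx (f.stalkMap x).hom).mapIso
    ((NatIso.mapHomologicalComplex (TorTest.tensorStalkIso x G) (ComplexShape.up ℤ)).app P)

theorem support_hd_subset (P : CochainComplex X.Modules ℤ) (G : X.Modules) (i : ℤ) :
    CohB1.support (DCoh.HD (DCoh.toD X (((DCoh.tensorRightMod G).mapHomologicalComplex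
      (ComplexShape.up ℤ)).obj P)) i) ⊆ CohB1.support G := by
  intro x hx
  by_contra h
  refine hx ?_
  let C := ((DCoh.tensorRightMod G).mapHomologicalComplex (ComplexShape.up ℤ)).obj P
  have hz : IsZero (((Sx x).obj C).sc i).X₂ :=
    IsZero.of_iso (((curriedTensor _).obj _).map_isZero (isZero_stalk_of_notMem h))
      ((TorTest.tensorStalkIso x G).app (P.X i))
  exact ModuleCat.subsingleton_of_isZero (M := (DerSch.stalkFunctor X x).obj (DCoh.HD (DCoh.toD X C) i))
    (IsZero.of_iso ((ShortComplex.exact_iff_isZero_homology _).1 (ShortComplex.exact_of_isZero_X₂ _ hz))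
      ((DerSch.stalkFunctor X x).mapIso ((DerivedCategory.homologyFunctorFactors X.Modules i).app C) ≪≫
        ((C.sc i).mapHomologyIso (DerSch.stalkFunctor X x)).symm))

/-- Perfect complexes are locally of finite tor amplitude. -/
theorem locFiniteTorAmplitude_id {P : CochainComplex X.Modules ℤ} (hP : DCoh.IsPerfect (DCoh.toD X P)) :
    DerSch.LocFiniteTorAmplitude (𝟙 X) P := by
  intro x
  obtain ⟨V, a, b, hx, h⟩ := ((isPerfect_iff_pc_torDim _).1 hP).2 x
  obtain ⟨E, hv, hf, ⟨e⟩⟩ := h P ⟨Iso.refl _⟩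
  refine ⟨V, a, b, hx, fun x' hx' => ?_⟩
  have h1 := TorTest.hasTorAmplitude_of_iso e
    (TorTest.hasTorAmplitude_of_flat (𝟙 (V : Scheme.{u})) hv fun i => isFlatOver_id (hf i))
  exact (at_restrict V.ι (𝟙 X) a b P ⟨x', hx'⟩).1
    ((at_congr (p' := V.ι ≫ 𝟙 X) (by rw [Category.id_comp, Category.comp_id]) a b _ _).1
      (at_comp (𝟙 (V : Scheme.{u})) V.ι (h1 ⟨x', hx'⟩)))

variable (f : X ⟶ S)

/-- The amplitude over the base of `P ⊗ G`. -/
theorem hasTorAmplitudeAt_tensorMod {P : CochainComplex X.Modules ℤ} (hP : lkflat X P) {G : X.Modules}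
    {x : X} (hG : FlatMod.IsFlatOverAt f G x) {a b : ℤ}
    (h : DerSch.HasTorAmplitudeAt (𝟙 X) a b P x) :
    DerSch.HasTorAmplitudeAt f a b
      (((DCoh.tensorRightMod G).mapHomologicalComplex (ComplexShape.up ℤ)).obj P) x := by
  let φ := (f.stalkMap x).hom
  let Gx := (DerSch.stalkFunctor X x).obj G
  have hk : KFlat.IsKFlat (bi (X.presheaf.stalk x)) ((Sx x).obj P) := by
    refine (H25DTen.isKFlat_iff _).1 ((isKFlat_iff_stalk P).1 ?_ x)
    exact fun L hL => KFlat.acyclic_of_iso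
      (KFlat.totFlipIso (F := DCoh.tensorBi (X := X)) P L ≪≫ Dual.braidC P L) (hP L hL)
  have hB : DRing.HasTorAmplitudeIn (X.presheaf.stalk x) a b (DRing.toD ((Sx x).obj P)) :=
    ta_of_bijective' h
  obtain ⟨E, hE, hf, ⟨e⟩⟩ := hB
  obtain ⟨Pp, hPp, ⟨e'⟩⟩ := exists_projRep (K := DRing.toD E) (c := b) fun i hi =>
    ModuleCat.subsingleton_of_isZero (((HomologicalComplex.exactAt_iff E i).2
      (ShortComplex.exact_of_isZero_X₂ (E.sc i) (hE i (Or.inr hi)))).isZero_homology.of_iso
        ((DerivedCategory.homologyFunctorFactors _ i).app E))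
  obtain ⟨u₁, hu₁, -⟩ := exists_qis hPp e'
  obtain ⟨u₂, hu₂, -⟩ := exists_qis hPp (e' ≪≫ e)
  haveI := hu₁
  haveI := hu₂
  have hPK := isKFlat_of_flat hPp.above hPp.flat
  have q₁ := quasiIso_tens u₁ hPK (isKFlat_of_flat (fun i hi => hE i (Or.inr hi)) hf) Gx
  have q₂ := quasiIso_tens u₂ hPK hk Gx
  let e₀ : DRing.toD ((tens Gx).obj E) ≅ DRing.toD ((tens Gx).obj ((Sx x).obj P)) :=
    (@asIso _ _ _ _ _ (H25DTen.isIso_Q_map _ q₁)).symm ≪≫ @asIso _ _ _ _ _ (H25DTen.isIso_Q_map _ q₂)
  let L : DRing.Cx (X.presheaf.stalk x) :=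
    (HomologicalComplex.single (ModuleCat.{u} (X.presheaf.stalk x)) (ComplexShape.up ℤ) 0).obj Gx
  have hL : DRing.HasTorAmplitudeIn (S.presheaf.stalk (f.base x)) 0 0 (DRing.toD ((DTen.resCx φ).obj L)) := by
    refine ⟨_, fun i hi => (ModuleCat.restrictScalars φ).map_isZero
      (HomologicalComplex.isZero_single_obj_X (ComplexShape.up ℤ) 0 Gx i (by omega)), fun i => ?_, ⟨Iso.refl _⟩⟩
    rcases eq_or_ne i 0 with rfl | hi
    · haveI : Module.Flat (S.presheaf.stalk (f.base x)) ((ModuleCat.restrictScalars φ).obj Gx) := hG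
      exact Module.Flat.of_linearEquiv ((ModuleCat.restrictScalars φ).mapIso
        (HomologicalComplex.singleObjXSelf (ComplexShape.up ℤ) 0 Gx)).toLinearEquiv
    · haveI : Subsingleton (((DTen.resCx φ).obj L).X i) := ModuleCat.subsingleton_of_isZero ((ModuleCat.restrictScalars φ).map_isZero
        (HomologicalComplex.isZero_single_obj_X (ComplexShape.up ℤ) 0 Gx i hi))
      haveI : Module.Free (S.presheaf.stalk (f.base x)) (((DTen.resCx φ).obj L).X i) := Module.Free.of_subsingleton _ _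
      exact Module.Flat.of_free
  have h' := TorTest.ta_res_tensor φ hE hf hL
  rw [add_zero, add_zero] at h'
  exact ta_of_iso (DerivedCategory.Q.mapIso ((DTen.resCx φ).mapIso (TorTest.tensorSingleIso E Gx)) ≪≫
    TorTest.resQ φ e₀ ≪≫ DerivedCategory.Q.mapIso (stalkTensorModIso f x P G).symm) h'
where
  ta_of_bijective' {P : CochainComplex X.Modules ℤ} {x : X} {a b : ℤ}
      (h : DerSch.HasTorAmplitudeAt (𝟙 X) a b P x) :
      DRing.HasTorAmplitudeIn (X.presheaf.stalk x) a b (DRing.toD ((Sx x).obj P)) :=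
    TorTest.ta_of_bijective ((𝟙 X : X ⟶ X).stalkMap x).hom
      (ConcreteCategory.bijective_of_isIso ((𝟙 X : X ⟶ X).stalkMap x)) h

variable [LocallyOfFiniteType f] [IsNoetherian S] [DCoh.HasRpush f]

/-- The theorem. -/
theorem isPerfect_rpush_ltensorMod (E : DCoh.D X) (hE : DCoh.IsPerfect E) (G : X.Modules)
    (hG : Coh.IsCoh G) (hflat : FlatMod.IsFlatOver f G)
    (hsupp : ClSub.IsProperOver f (CohB1.support G)) [DCoh.HasLTensorMod G] :
    DCoh.IsPerfect ((DCoh.Rpush f).obj ((DCoh.LTensorMod G).obj E)) := by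
  haveI : IsLocallyNoetherian X := LocallyOfFiniteType.isLocallyNoetherian f
  obtain ⟨P, -, hP, ⟨eP⟩⟩ := Dual.exists_rep E
  let C := ((DCoh.tensorRightMod G).mapHomologicalComplex (ComplexShape.up ℤ)).obj P
  let e : DCoh.toD X C ≅ (DCoh.LTensorMod G).obj E :=
    (ltensorModObjIso G P hP).symm ≪≫ (DCoh.LTensorMod G).mapIso eP
  refine isPerfect_of_iso ((DCoh.Rpush f).mapIso e) ?_
  have hloc := locFiniteTorAmplitude_id (isPerfect_of_iso eP.symm hE)
  obtain ⟨a, b, hab⟩ := TorTest.exists_interval (𝟙 X) P (isCompact_of_isProperOver f hsupp) hloc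
  refine isPerfect_rpush f C ⟨Dual.isCohD_iso e.symm (isCohD_ltensorMod hE hG), fun i =>
    let q := Dual.isCohD_iso e.symm (isCohD_ltensorMod hE hG) i
    LeadProper.isProperOver_mono hsupp (LeadProper.isClosed_support (DCoh.HD (DCoh.toD X C) i) q.1 q.2)
      (support_hd_subset P G i)⟩
    (le_max_left a b) fun x => ?_
  by_cases hx : x ∈ CohB1.support G
  · exact TorTest.at_mono le_rfl (le_max_right a b) (hasTorAmplitudeAt_tensorMod f hP (hflat x) (hab x hx))
  · refine ta_of_isZero (DerivedCategory.Q.map_isZero ?_)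
    refine (IsZero.iff_id_eq_zero _).2 (HomologicalComplex.hom_ext _ _ fun i => ?_)
    exact (IsZero.of_iso ((ModuleCat.restrictScalars (f.stalkMap x).hom).map_isZero
        (((curriedTensor _).obj _).map_isZero (isZero_stalk_of_notMem hx)))
      ((ModuleCat.restrictScalars (f.stalkMap x).hom).mapIso ((TorTest.tensorStalkIso x G).app (P.X i)))).eq_of_src _ _

end Groth.Agent.H16Derived.ProperSupp
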