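import Groth.Agent.H16Derived.QCohD.Rpush
import Groth.Agent.H16Derived.QCohD.RpushUnb
import Groth.Agent.H16Derived.Dual.PseudoCoh
import Groth.Agent.H16Derived.Thomason.Approx
import Groth.Agent.LeadProper.PushRpush
import Groth.Agent.LeadProper.Basic
import Groth.Agent.S0795

/-!
# Derived direct images of coherent objects with proper support
-/

set_option autoImplicit false
set_option linter.style.haveILetI false

universe u

open CategoryTheory CategoryTheory.Limits CategoryTheory.Pretriangulated AlgebraicGeometry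
open DerivedCategory.TStructure (t)

attribute [local instance] HasDerivedCategory.standard

namespace Groth.Agent.H16Derived.ProperSupp

open Groth.Agent.H16Derived.KFlat Groth.Agent.H16Derived.KFlat.Stalk
open Groth.Agent.H16Derived.Dual (isCohD_iso isCohD_obj₂ isCoh_isZero)

variable {X S : Scheme.{u}} (f : X ⟶ S)

/-- Coherent cohomology with supports proper over the base. -/
def PS (K : DCoh.D X) : Prop :=
  DCoh.IsCohD K ∧ ∀ i : ℤ, ClSub.IsProperOver f (CohB1.support (DCoh.HD K i))

theorem isProperOver_empty : ClSub.IsProperOver f (∅ : Set X) := by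
  refine ⟨isClosed_empty, ?_⟩
  haveI : IsEmpty ↥(Scheme.IdealSheafData.vanishingIdeal (⟨∅, isClosed_empty⟩ : TopologicalSpace.Closeds X)).subscheme :=
    ⟨fun z => ((H17.range_vanishingIdeal_subschemeι
      (⟨∅, isClosed_empty⟩ : TopologicalSpace.Closeds X)).le ⟨z, rfl⟩).elim⟩
  infer_instance

theorem PS.of_iso {K K' : DCoh.D X} (e : K ≅ K') (h : PS f K) : PS f K' := by
  refine ⟨isCohD_iso e h.1, fun i => ?_⟩
  rw [← MVPush.support_iso ((DerivedCategory.homologyFunctor X.Modules i).mapIso e)]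
  exact h.2 i

theorem PS.truncLT [IsLocallyNoetherian X] {K : DCoh.D X} (h : PS f K) (n : ℤ) : PS f ((t.truncLT n).obj K) := by
  have key : ∀ i, Coh.IsCoh (DCoh.HD ((t.truncLT n).obj K) i) ∧
      ClSub.IsProperOver f (CohB1.support (DCoh.HD ((t.truncLT n).obj K) i)) := fun i => by
    rcases lt_or_ge i n with hi | hi
    · haveI := DTrunc.isIso_homology_truncLTι K n i hi
      let e := asIso ((DerivedCategory.homologyFunctor _ i).map ((t.truncLTι n).app K))
      exact ⟨H10Coh.isCoh_of_iso e.symm (h.1 i), by rw [MVPush.support_iso e]; exact h.2 i⟩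
    · haveI : DerivedCategory.IsLE ((t.truncLT n).obj K) (n - 1) := inferInstanceAs (t.IsLE ((t.truncLT n).obj K) (n - 1))
      have hz := DerivedCategory.isZero_of_isLE ((t.truncLT n).obj K) (n - 1) i (by omega)
      exact ⟨isCoh_isZero hz, by rw [Thomason.support_eq_empty_of_isZero hz]; exact isProperOver_empty f⟩
  exact ⟨fun i => (key i).1, fun i => (key i).2⟩

theorem PS.truncGE [IsLocallyNoetherian X] {K : DCoh.D X} (h : PS f K) (n : ℤ) : PS f ((t.truncGE n).obj K) := by
  have key : ∀ i, Coh.IsCoh (DCoh.HD ((t.truncGE n).obj K) i) ∧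
      ClSub.IsProperOver f (CohB1.support (DCoh.HD ((t.truncGE n).obj K) i)) := fun i => by
    rcases lt_or_ge i n with hi | hi
    · haveI : DerivedCategory.IsGE ((t.truncGE n).obj K) n := inferInstanceAs (t.IsGE ((t.truncGE n).obj K) n)
      have hz := DerivedCategory.isZero_of_isGE ((t.truncGE n).obj K) n i hi
      exact ⟨isCoh_isZero hz, by rw [Thomason.support_eq_empty_of_isZero hz]; exact isProperOver_empty f⟩
    · haveI := DTrunc.isIso_homology_truncGEπ K n i hi
      let e := asIso ((DerivedCategory.homologyFunctor _ i).map ((t.truncGEπ n).app K))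
      exact ⟨H10Coh.isCoh_of_iso e (h.1 i), by rw [← MVPush.support_iso e]; exact h.2 i⟩
  exact ⟨fun i => (key i).1, fun i => (key i).2⟩

variable [LocallyOfFiniteType f] [IsNoetherian S]

/-- Higher direct images of a coherent module with proper support vanish in large degrees. -/
theorem exists_bound [HasInjectiveResolutions X.Modules] {F : X.Modules} (hF : Coh.IsCoh F)
    (hs : ClSub.IsProperOver f (CohB1.support F)) : ∃ N : ℕ, ∀ p, N ≤ p → IsZero ((Coh.Rpush f p).obj F) := by
  set I := Fitt.sheafIdeal F 0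
  have hr : Set.range I.subschemeι = CohB1.support F := by
    rw [Scheme.IdealSheafData.range_subschemeι, LeadProper.support_eq_fitt F hF.1 hF.2]
  haveI : IsProper (I.subschemeι ≫ f) := (LeadProper.isProperOver_iff f _ hr).1 hs
  haveI : IsIso ((Scheme.Modules.pullbackPushforwardAdjunction I.subschemeι).unit.app F) :=
    LeadProper.isIso_unit_of_killedByIdeal F hF.1 _ (by
      rw [Scheme.IdealSheafData.ker_subschemeι]; exact LeadProper.killedByIdeal_fitt F hF.1 hF.2)
  haveI := QCohD.hasInjectiveResolutions_modules (X := I.subscheme)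
  haveI := QCohD.hasRpush (I.subschemeι ≫ f)
  obtain ⟨N, hN⟩ := QCohD.exists_bound (I.subschemeι ≫ f)
  exact ⟨N, fun p hp => IsZero.of_iso (hN _ (H29Fitt.isQCoh_pullback _ F hF.1) p hp)
    ((Coh.Rpush f p).mapIso (asIso ((Scheme.Modules.pullbackPushforwardAdjunction I.subschemeι).unit.app F)) ≪≫
      (LeadProper.nonempty_rpush_push f I.subschemeι _ p).some)⟩

variable [DCoh.HasRpush f]

theorem coh_single {M : X.Modules} (hM : Coh.IsCoh M) (hs : ClSub.IsProperOver f (CohB1.support M)) (a : ℤ) :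
    DCoh.IsCohD ((DCoh.Rpush f).obj ((DerivedCategory.singleFunctor X.Modules a).obj M)) ∧
      ∃ b : ℤ, ((DCoh.Rpush f).obj ((DerivedCategory.singleFunctor X.Modules a).obj M)).IsLE b := by
  haveI := QCohD.hasInjectiveResolutions_modules (X := X)
  have hge : DerivedCategory.IsGE ((DCoh.Rpush f).obj ((DerivedCategory.singleFunctor X.Modules a).obj M)) a :=
    isGE_rpush f _ a
  obtain ⟨N, hN⟩ := exists_bound f hM hs
  refine ⟨fun i => ?_, a + N, (DerivedCategory.isLE_iff _ _).2 fun i hi => ?_⟩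
  · rcases lt_or_ge i a with h | h
    · exact isCoh_isZero (DerivedCategory.isZero_of_isGE _ a i h)
    · obtain ⟨p, hp⟩ := Int.eq_ofNat_of_zero_le (show 0 ≤ i - a by omega)
      exact H10Coh.isCoh_of_iso (QCohD.nonempty_hd_rpush_singleAt f M a i p (by omega)).some.symm
        (S0795.result f M hM hs p)
  · obtain ⟨p, hp⟩ := Int.eq_ofNat_of_zero_le (show 0 ≤ i - a by omega)
    exact (hN p (by omega)).of_iso (QCohD.nonempty_hd_rpush_singleAt f M a i p (by omega)).some

/-- Bounded objects. -/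
theorem coh_bounded : ∀ (k : ℕ) (a b : ℤ), b - a + 1 ≤ k → ∀ (K : DCoh.D X), K.IsGE a → K.IsLE b → PS f K →
    DCoh.IsCohD ((DCoh.Rpush f).obj K) ∧ ∃ b' : ℤ, ((DCoh.Rpush f).obj K).IsLE b' := by
  haveI : IsLocallyNoetherian X := LocallyOfFiniteType.isLocallyNoetherian f
  letI := rpushCommShift f
  haveI := rpush_isTriangulated f
  intro k
  induction k with
  | zero =>
    intro a b hk K _ _ _
    have hz : IsZero ((DCoh.Rpush f).obj K) := (DCoh.Rpush f).map_isZero (t.isZero K b a (by omega))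
    exact ⟨fun i => isCoh_isZero (Functor.map_isZero _ hz), 0,
      (DerivedCategory.isLE_iff _ _).2 fun i _ => Functor.map_isZero _ hz⟩
  | succ k ih =>
    intro a b hk K _ _ hK
    have hT := t.triangleLTGE_distinguished b K
    haveI : DerivedCategory.IsGE ((t.truncGE b).obj K) b := inferInstanceAs (t.IsGE _ b)
    haveI : DerivedCategory.IsLE ((t.truncGE b).obj K) b := DTrunc.isLE_truncGE K b b
    obtain ⟨M, ⟨e⟩⟩ := ((t.truncGE b).obj K).exists_iso_singleFunctor_obj_of_isGE_of_isLE b
    have hP := (hK.truncGE f b).of_iso f e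
    have hM : Coh.IsCoh M := H10Coh.isCoh_of_iso (hdSingle M b) (hP.1 b)
    have hMs : ClSub.IsProperOver f (CohB1.support M) := by
      rw [← MVPush.support_iso (hdSingle M b)]; exact hP.2 b
    obtain ⟨q₁, b₁, v₁⟩ := ih a (b - 1) (by omega) _ (DTrunc.isGE_truncLT K b a)
      (inferInstanceAs (t.IsLE ((t.truncLT b).obj K) (b - 1))) (hK.truncLT f b)
    obtain ⟨q₂, b₂, v₂⟩ := coh_single f hM hMs b
    have hRT := (DCoh.Rpush f).map_distinguished _ hT
    refine ⟨isCohD_obj₂ hRT q₁ (isCohD_iso ((DCoh.Rpush f).mapIso e.symm) q₂), max b₁ b₂, ?_⟩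
    haveI := v₁
    haveI := v₂
    haveI h1 : t.IsLE ((DCoh.Rpush f).obj ((t.truncLT b).obj K)) b₁ := v₁
    haveI h2 : t.IsLE ((DCoh.Rpush f).obj ((DerivedCategory.singleFunctor X.Modules b).obj M)) b₂ := v₂
    haveI h3 : t.IsLE ((DCoh.Rpush f).obj ((DerivedCategory.singleFunctor X.Modules b).obj M)) (max b₁ b₂) :=
      t.isLE_of_le _ b₂ _ (le_max_right _ _)
    exact t.isLE₂ _ hRT _ (t.isLE_of_le ((DCoh.Rpush f).obj ((t.truncLT b).obj K)) b₁ _ (le_max_left _ _))
      (t.isLE_of_iso ((DCoh.Rpush f).mapIso e.symm) (max b₁ b₂))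

/-- Bounded below objects. -/
theorem coh_isGE (K : DCoh.D X) (a : ℤ) [K.IsGE a] (hK : PS f K) : DCoh.IsCohD ((DCoh.Rpush f).obj K) := fun m => by
  haveI : IsLocallyNoetherian X := LocallyOfFiniteType.isLocallyNoetherian f
  letI := rpushCommShift f
  haveI := rpush_isTriangulated f
  have hRT := (DCoh.Rpush f).map_distinguished _ (t.triangleLTGE_distinguished (m + 2) K)
  haveI : DerivedCategory.IsGE ((t.truncGE (m + 2)).obj K) (m + 2) := inferInstanceAs (t.IsGE _ (m + 2))
  haveI := isGE_rpush f ((t.truncGE (m + 2)).obj K) (m + 2)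
  haveI : DerivedCategory.IsLE ((t.truncLT (m + 2)).obj K) (m + 2 - 1) := inferInstanceAs (t.IsLE _ _)
  have q := (coh_bounded f ((m + 2 - 1) - a + 1).toNat a (m + 2 - 1) (Int.self_le_toNat _) _
    (DTrunc.isGE_truncLT K (m + 2) a) inferInstance (hK.truncLT f (m + 2))).1 m
  have hz : ∀ i, i < m + 2 → IsZero (DCoh.HD ((DCoh.Rpush f).obj ((t.truncGE (m + 2)).obj K)) i) := fun i hi =>
    DerivedCategory.isZero_of_isGE _ (m + 2) i hi
  haveI : Mono ((DerivedCategory.homologyFunctor _ m).map ((DCoh.Rpush f).map ((t.truncLTι (m + 2)).app K))) :=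
    (DerivedCategory.HomologySequence.mono_homologyMap_mor₁_iff _ hRT (m - 1) m (by omega)).2
      ((hz (m - 1) (by omega)).eq_of_src _ _)
  haveI : Epi ((DerivedCategory.homologyFunctor _ m).map ((DCoh.Rpush f).map ((t.truncLTι (m + 2)).app K))) :=
    (DerivedCategory.HomologySequence.epi_homologyMap_mor₁_iff _ hRT m).2 ((hz m (by omega)).eq_of_tgt _ _)
  haveI := isIso_of_mono_of_epi ((DerivedCategory.homologyFunctor _ m).map ((DCoh.Rpush f).map ((t.truncLTι (m + 2)).app K)))
  exact H10Coh.isCoh_of_iso (asIso ((DerivedCategory.homologyFunctor _ m).map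
    ((DCoh.Rpush f).map ((t.truncLTι (m + 2)).app K)))) q

end Groth.Agent.H16Derived.ProperSupp
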