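import Groth.Agent.H16Derived.ProperSupp.Coherent
import Groth.Agent.H16Derived.TorTest.RpushAmpLoc
import Groth.Agent.H16Derived.TorTest.AbsStalk
import Groth.Agent.S0912

/-!
# Perfectness of derived direct images
-/

set_option autoImplicit false
set_option linter.style.haveILetI false

universe u

open CategoryTheory CategoryTheory.Limits AlgebraicGeometry
open Groth.Agent.H16Derived
open Groth.Agent.H16Derived.KFlat Groth.Agent.H16Derived.KFlat.Stalk

attribute [local instance] HasDerivedCategory.standard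

namespace Groth.Agent.H16Derived.ProperSupp

variable {X S : Scheme.{u}} (f : X ⟶ S) [LocallyOfFiniteType f] [IsNoetherian S]

omit [LocallyOfFiniteType f] in
/-- Subsets proper over a Noetherian base are quasi-compact. -/
theorem isCompact_of_isProperOver {Z : Set X} (h : ClSub.IsProperOver f Z) : IsCompact Z := by
  obtain ⟨hc, hp⟩ := h
  let T : TopologicalSpace.Closeds X := ⟨Z, hc⟩
  haveI : CompactSpace (Scheme.IdealSheafData.vanishingIdeal T).subscheme :=
    QuasiCompact.compactSpace_of_compactSpace ((Scheme.IdealSheafData.vanishingIdeal T).subschemeι ≫ f)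
  have hr : Set.range (Scheme.IdealSheafData.vanishingIdeal T).subschemeι = Z :=
    H17.range_vanishingIdeal_subschemeι T
  rw [← hr]
  exact isCompact_range (Scheme.IdealSheafData.vanishingIdeal T).subschemeι.continuous

omit [LocallyOfFiniteType f] in
/-- A quasi-compact open containing the supports. -/
theorem exists_open {K : DCoh.D X} (hK : PS f K) (a b : ℤ)
    (hv : ∀ i : ℤ, (i < a ∨ b < i) → IsZero (DCoh.HD K i)) :
    ∃ (T : Set X) (U : X.Opens), IsClosed T ∧ IsCompact (U : Set X) ∧ T ⊆ (U : Set X) ∧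
      ∀ i, CohB1.support (DCoh.HD K i) ⊆ T := by
  let T : Set X := ⋃ i ∈ Finset.Icc a b, CohB1.support (DCoh.HD K i)
  have hT : IsClosed T := (Finset.Icc a b).finite_toSet.isClosed_biUnion fun i _ => (hK.2 i).1
  have hTc : IsCompact T := (Finset.Icc a b).isCompact_biUnion fun i _ => isCompact_of_isProperOver f (hK.2 i)
  obtain ⟨s, hs⟩ := hTc.elim_finite_subcover (fun V : X.affineOpens => (V.1 : Set X)) (fun V => V.1.2)
    fun x _ => by
      obtain ⟨_, ⟨(V : X.Opens), hV, rfl⟩, hx, -⟩ :=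
        X.isBasis_affineOpens.exists_subset_of_mem_open (Set.mem_univ x) isOpen_univ
      exact Set.mem_iUnion.2 ⟨⟨V, hV⟩, hx⟩
  refine ⟨T, ⟨⋃ V ∈ s, (V.1 : Set X), isOpen_biUnion fun V _ => V.1.2⟩, hT,
    s.isCompact_biUnion fun V _ => V.2.isCompact, hs, fun i => ?_⟩
  by_cases hi : i < a ∨ b < i
  · rw [Thomason.support_eq_empty_of_isZero (hv i hi)]
    exact Set.empty_subset _
  · exact Set.subset_biUnion_of_mem (u := fun i => CohB1.support (DCoh.HD K i))
      (Finset.mem_coe.2 (Finset.mem_Icc.2 ⟨by omega, by omega⟩))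

variable [DCoh.HasRpush f]

/-- The perfectness theorem. -/
theorem isPerfect_rpush (F : CochainComplex X.Modules ℤ) (hK : PS f (DCoh.toD X F)) {a b : ℤ}
    (hab : a ≤ b) (hF : DerSch.HasTorAmplitude f a b F) :
    DCoh.IsPerfect ((DCoh.Rpush f).obj (DCoh.toD X F)) := by
  obtain ⟨hge, hle⟩ := TorTest.bounds_of_ta f hF
  haveI := hge
  haveI := hle
  obtain ⟨T, U, hT, hUc, hTU, hsupp⟩ := exists_open f hK a b fun i hi => hi.elim
    (fun h => DerivedCategory.isZero_of_isGE _ a i h) (fun h => DerivedCategory.isZero_of_isLE _ b i h)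
  haveI := QCohD.hasRpush U.ι
  haveI := QCohD.hasRpush (U.ι ≫ f)
  haveI : CompactSpace (U : Scheme.{u}) := isCompact_iff_compactSpace.1 hUc
  haveI : IsLocallyNoetherian (U : Scheme.{u}) := LocallyOfFiniteType.isLocallyNoetherian (U.ι ≫ f)
  haveI : QuasiCompact (U.ι ≫ f) := quasiCompact_of_compactSpace _
  obtain ⟨e₁⟩ := MVPush.nonempty_iso_rpush_restrict U T hT hTU (DCoh.toD X F) hsupp
  obtain ⟨e₂⟩ := nonempty_rpushCompIso U.ι f
  let F' := (DCoh.restrictCx U).obj F
  let eF : (DCoh.restrictD U.ι).obj (DCoh.toD X F) ≅ DCoh.toD _ F' := (rdQ U.ι).app F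
  have hqc' : DCoh.IsQCohD (DCoh.toD _ F') := QCohD.isQCohD_iso eF (QCohD.isQCohD_rd _ fun i => (hK.1 i).1)
  have hF' : DerSch.HasTorAmplitude ((U.ι ≫ f) ≫ 𝟙 S) a b F' := fun x =>
    (TorTest.at_congr (Category.comp_id _) a b F' x).2 ((TorTest.at_restrict U.ι f a b F x).2 (hF _))
  obtain ⟨N, hN⟩ := QCohD.exists_bound (U.ι ≫ f)
  obtain ⟨K, -, -, ⟨eK⟩⟩ := Dual.exists_rep ((DCoh.Rpush (U.ι ≫ f)).obj (DCoh.toD _ F'))
  have h := TorTest.hasTorAmplitudeIn_of_stalk (TorTest.hasTorAmplitudeD_rpush (U.ι ≫ f) (𝟙 S) hN F' hqc' hF' K ⟨eK⟩)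
  let e : DCoh.toD S K ≅ (DCoh.Rpush f).obj (DCoh.toD X F) :=
    eK ≪≫ (DCoh.Rpush (U.ι ≫ f)).mapIso eF.symm ≪≫ (e₂.app _).symm ≪≫ (DCoh.Rpush f).mapIso e₁.symm
  have hfl := (S0912.result _ a (b + N) (by omega) hasLTensorMod).1 (hasTorAmplitudeIn_of_iso e.symm h)
  obtain ⟨hcoh, b', hb'⟩ := coh_bounded f (b - a + 1).toNat a b (Int.self_le_toNat _) _ hge hle hK
  haveI := hb'
  exact isPerfect_of_flatAmplitude a (b + N) hfl (Dual.isPseudoCoherentD_of_isCohD b' hcoh _)

end Groth.Agent.H16Derived.ProperSupp
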